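import Cfsg.Agent.Chev.Bruhat

/-!
# Root subgroups of closed sets of positive roots meet in the common roots
-/

set_option autoImplicit false

namespace CfsgLib.Chev.Sys

open Cfsg.Lie Matrix

universe u

variable {D : ChevalleyDatum} (S : Sys.{u} D) {F : Type u} [Field F]

/-- A set of positive roots closed under the roots of the commutator formula. -/
def IsClosedRootSet (_S : Sys.{u} D) (P : ℕ → Prop) : Prop :=
  ∀ r s v : ℕ, D.nroots / 2 ≤ r → r < D.nroots → D.nroots / 2 ≤ s → s < D.nroots →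
    D.nroots / 2 ≤ v → v < D.nroots → P r → P s →
    (∃ i j : ℤ, 1 ≤ i ∧ 1 ≤ j ∧ ∀ a < D.rank, _S.vec v a = i * _S.vec r a + j * _S.vec s a) → P v

theorem conj_mem_genBy {P : ℕ → Prop} (hP : S.IsClosedRootSet P) {r : ℕ} (h1 : D.nroots / 2 ≤ r)
    (h2 : r < D.nroots) (h3 : P r) (t : F) {k : ℕ} (hk : r < k) {g : GL D.Idx F}
    (hg : g ∈ S.genBy F (fun x => P x ∧ k ≤ x)) :
    S.xU r t * g * (S.xU r t)⁻¹ ∈ S.genBy F (fun x => P x ∧ k ≤ x) := by
  have : S.genBy F (fun x => P x ∧ k ≤ x) ≤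
      (S.genBy F (fun x => P x ∧ k ≤ x)).comap (MulAut.conj (S.xU r t)).toMonoidHom :=
    S.genBy_le fun s hs1 hs2 hs3 v => by
      show S.xU r t * S.xU s v * (S.xU r t)⁻¹ ∈ S.genBy F (fun x => P x ∧ k ≤ x)
      have hne : s ≠ r := fun e => by have := hs3.2; omega
      rw [S.xU_inv, mul_assoc, S.comm_wU h2 hs2 hne (S.pos_ne_neg h2 h1 hs1), ← mul_assoc,
        ← mul_assoc, S.xU_add, add_neg_cancel, S.xU_zero, one_mul]
      refine Subgroup.mul_mem _ (S.xU_mem_genBy hs1 hs2 hs3 v) ?_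
      rw [wU]
      refine Subgroup.list_prod_mem _ fun x hx => ?_
      obtain ⟨c, hc, rfl⟩ := List.mem_map.1 hx
      obtain ⟨g1, g2, g3⟩ := S.commWord_gt h2 hs2 h1 hs1 hc
      have := hs3.2
      simp only [ChevalleyDatum.commWord, List.mem_map] at hc
      obtain ⟨d, hd, rfl⟩ := hc
      obtain ⟨-, i, j, hi, hj, hvec⟩ := S.commTerms_vec h2 hs2 hd
      dsimp only at g1 g2 g3 ⊢
      exact S.xU_mem_genBy (by omega) g3
        ⟨hP r s d.1 h1 h2 hs1 hs2 (by omega) g3 h3 hs3.1 ⟨i, j, hi, hj, hvec⟩, by omega⟩ _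
  exact this hg

/-- An element of the subgroup of a closed set is an ordered product supported in the set. -/
theorem exists_supported {P : ℕ → Prop} (hP : S.IsClosedRootSet P) :
    ∀ {k : ℕ}, D.nroots / 2 ≤ k → ∀ {g : GL D.Idx F}, g ∈ S.genBy F (fun x => P x ∧ k ≤ x) →
      ∃ t : ℕ → F, (∀ r, ¬ (P r ∧ k ≤ r ∧ r < D.nroots) → t r = 0) ∧ g = S.prodFrom t k := by
  classical
  intro k
  induction hd : D.nroots - k generalizing k with
  | zero =>
    intro hk g hg
    refine ⟨0, fun _ _ => rfl, ?_⟩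
    have h1 : S.genBy F (fun x => P x ∧ k ≤ x) ≤ ⊥ :=
      S.genBy_le fun r _ h2 h3 _ => by have := h3.2; omega
    rw [Subgroup.mem_bot.1 (h1 hg)]
    simp [prodFrom, hd, wU]
  | succ d ih =>
    intro hk g hg
    have hkn : k < D.nroots := by omega
    have hstep : ∃ a : F, (¬ P k → a = 0) ∧ ∃ y ∈ S.genBy F (fun x => P x ∧ k + 1 ≤ x),
        g = S.xU k a * y := by
      induction hg using Subgroup.closure_induction with
      | mem y hy =>
        obtain ⟨r, t, h1, h2, h3, rfl⟩ := hy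
        rcases h3.2.eq_or_lt with rfl | h
        · exact ⟨t, fun h => absurd h3.1 h, 1, Subgroup.one_mem _, (mul_one _).symm⟩
        · exact ⟨0, fun _ => rfl, _, S.xU_mem_genBy h1 h2 ⟨h3.1, h⟩ t, by rw [S.xU_zero, one_mul]⟩
      | one => exact ⟨0, fun _ => rfl, 1, Subgroup.one_mem _, by rw [S.xU_zero, one_mul]⟩
      | mul x y _ _ hx hy =>
        obtain ⟨a, ha, x', hx', rfl⟩ := hx
        obtain ⟨b, hb, y', hy', rfl⟩ := hy
        by_cases hk' : P k
        · refine ⟨a + b, fun h => absurd hk' h, S.xU k (-b) * x' * (S.xU k (-b))⁻¹ * y',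
            Subgroup.mul_mem _ (S.conj_mem_genBy hP hk hkn hk' (-b) (by omega) hx') hy', ?_⟩
          rw [← S.xU_add, ← S.xU_inv]; group
        · refine ⟨0, fun _ => rfl, x' * y', Subgroup.mul_mem _ hx' hy', ?_⟩
          rw [ha hk', hb hk', S.xU_zero]; group
      | inv x _ hx =>
        obtain ⟨a, ha, x', hx', rfl⟩ := hx
        by_cases hk' : P k
        · refine ⟨-a, fun h => absurd hk' h, S.xU k a * x'⁻¹ * (S.xU k a)⁻¹,
            S.conj_mem_genBy hP hk hkn hk' a (by omega) (Subgroup.inv_mem _ hx'), ?_⟩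
          rw [← S.xU_inv]; group
        · refine ⟨0, fun _ => rfl, x'⁻¹, Subgroup.inv_mem _ hx', ?_⟩
          rw [ha hk', S.xU_zero]; group
    obtain ⟨a, ha, y, hy, rfl⟩ := hstep
    obtain ⟨t, ht, rfl⟩ := ih (k := k + 1) (by omega) (hk.trans k.le_succ) hy
    refine ⟨Function.update t k a, fun r hr => ?_, ?_⟩
    · by_cases hrk : r = k
      · subst hrk
        rw [Function.update_self]
        exact ha fun h => hr ⟨h, le_rfl, hkn⟩
      · rw [Function.update_of_ne hrk]
        exact ht r fun h => hr ⟨h.1, by omega, h.2.2⟩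
    · rw [S.prodFrom_succ (Function.update t k a) hkn, Function.update_self]
      congr 1
      exact S.prodFrom_congr fun r h1 _ => by rw [Function.update_of_ne (by omega)]

/-- The subgroups of closed sets meet in the subgroup of the common roots. -/
theorem genBy_inf_le {P Q : ℕ → Prop} (hP : S.IsClosedRootSet P) (hQ : S.IsClosedRootSet Q) :
    S.genBy F P ⊓ S.genBy F Q ≤ S.genBy F (fun r => P r ∧ Q r) := by
  classical
  intro g hg
  obtain ⟨h1, h2⟩ := Subgroup.mem_inf.1 hg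
  obtain ⟨t, ht, rfl⟩ := S.exists_supported hP le_rfl
    (S.genBy_mono (Q := fun x => P x ∧ D.nroots / 2 ≤ x) (fun r h _ h' => ⟨h', h⟩) h1)
  obtain ⟨t', ht', e⟩ := S.exists_supported hQ le_rfl
    (S.genBy_mono (Q := fun x => Q x ∧ D.nroots / 2 ≤ x) (fun r h _ h' => ⟨h', h⟩) h2)
  have heq := S.prodFrom_inj le_rfl e
  rw [prodFrom, wU]
  refine Subgroup.list_prod_mem _ fun x hx => ?_
  simp only [List.map_map, List.mem_map, List.mem_range'_1, Function.comp_apply] at hx
  obtain ⟨r, hr, rfl⟩ := hx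
  have hrn : r < D.nroots := by omega
  by_cases h : P r ∧ Q r
  · exact S.xU_mem_genBy hr.1 hrn h _
  · have h0 : t r = 0 := by
      by_cases hp : P r
      · rw [heq r hr.1 hrn]
        exact ht' r fun h' => h ⟨hp, h'.1⟩
      · exact ht r fun h' => hp h'.1
    rw [h0, S.xU_zero]
    exact Subgroup.one_mem _

end CfsgLib.Chev.Sys
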